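import Mathlib.AlgebraicGeometry.Morphisms.FlatMono
import Mathlib.AlgebraicGeometry.Artinian
import Mathlib.AlgebraicGeometry.Limits

/-!
Monomorphisms into a reduced scheme with discrete underlying space are open immersions.
-/

set_option autoImplicit false
universe u

open CategoryTheory CategoryTheory.Limits AlgebraicGeometry TopologicalSpace MorphismProperty

namespace K586.MonoDiscrete

lemma flat_of_discrete {X S : Scheme.{u}} [DiscreteTopology S] [IsReduced S] (f : X ⟶ S) :
    Flat f := by
  refine Flat.of_stalkMap f fun x => ?_
  have h1 : IsField (S.presheaf.stalk (f x)) := by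
    refine isField_stalk_of_closure_mem_irreducibleComponents S (f x) ?_
    rw [closure_discrete]
    refine ⟨isIrreducible_singleton, fun t ht hle => ?_⟩
    have hsub : t.Subsingleton := ht.2.subsingleton
    intro y hy
    exact hsub hy (hle rfl)
  letI := h1.toField
  letI := (f.stalkMap x).hom.toAlgebra
  exact (inferInstance : Module.Flat (S.presheaf.stalk (f x)) (X.presheaf.stalk x))

theorem isOpenImmersion_of_mono {X S : Scheme.{u}} [DiscreteTopology S] [IsReduced S] (f : X ⟶ S)
    [Mono f] : IsOpenImmersion f := by
  let U : S.Opens := ⟨Set.range f, isOpen_discrete _⟩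
  let f' := IsOpenImmersion.lift U.ι f (by simp [U])
  have heq : f = f' ≫ U.ι := by simp [f']
  have hmono : Mono f' := mono_of_mono_fac heq.symm
  have hU1 : DiscreteTopology (U : Scheme.{u}) := U.ι.isOpenEmbedding.discreteTopology
  have hflat : Flat f' := flat_of_discrete f'
  have hsurj : Surjective f' := ⟨fun ⟨x, ⟨y, hy⟩⟩ ↦
    ⟨y, by apply U.ι.injective; simp [← Scheme.Hom.comp_apply, f', hy]⟩⟩
  have hdX : DiscreteTopology X := by
    have := DiscreteTopology.of_continuous_injective f'.continuous f'.injective
    exact this
  have hhomeo : IsHomeomorph f'.base :=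
    ⟨f'.continuous, fun _ _ => isOpen_discrete _, f'.injective, f'.surjective⟩
  have : QuasiCompact f' := ⟨fun U hU hc ↦ hhomeo.homeomorph.isCompact_preimage.mpr hc⟩
  have := Flat.isIso_of_surjective_of_mono f'
  rw [heq]
  infer_instance

end K586.MonoDiscrete
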