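import Mathlib.AlgebraicGeometry.Morphisms.QuasiSeparated

set_option autoImplicit false
universe u

open CategoryTheory CategoryTheory.Limits AlgebraicGeometry TopologicalSpace

namespace K586.QSep

lemma quasiSeparatedSpace_of_cover {X : Scheme.{u}} (O : X.Opens) {κ : Type*} (V : κ → X.affineOpens)
    (hV : ⨆ j, (V j : X.Opens) = O)
    (hVV : ∀ (j j' : κ), IsCompact ((V j : Set X) ∩ (V j' : Set X))) :
    QuasiSeparatedSpace (O : Scheme.{u}) := by
  have hle : ∀ j, (V j : X.Opens) ≤ O := fun j => hV ▸ le_iSup (fun j => (V j : X.Opens)) j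
  refine Scheme.quasiSeparatedSpace_of_isOpenCover (fun j => O.ι ⁻¹ᵁ (V j : X.Opens)) ?_ ?_ ?_
  · rw [IsOpenCover, eq_top_iff]
    rintro x -
    have hx : O.ι x ∈ ⨆ j, (V j : X.Opens) := by rw [hV]; exact x.2
    obtain ⟨j, hj⟩ := Opens.mem_iSup.1 hx
    exact Opens.mem_iSup.2 ⟨j, hj⟩
  · intro j
    exact (V j).2.preimage_of_isOpenImmersion O.ι (by simpa using hle j)
  · intro i j
    rw [O.ι.isOpenEmbedding.isEmbedding.isCompact_iff]
    convert hVV i j using 1
    ext x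
    constructor
    · rintro ⟨y, hy, rfl⟩; exact hy
    · intro hx
      exact ⟨⟨x, hle i hx.1⟩, hx, rfl⟩

theorem quasiSeparated_of_covers {X S : Scheme.{u}} (f : X ⟶ S) {ι : Type u} (W : ι → S.affineOpens)
    (hW : ⨆ i, (W i : S.Opens) = ⊤) {κ : ι → Type u} (V : ∀ i, κ i → X.affineOpens)
    (hV : ∀ i, ⨆ j, (V i j : X.Opens) = f ⁻¹ᵁ (W i : S.Opens))
    (hVV : ∀ i (j j' : κ i), IsCompact ((V i j : Set X) ∩ (V i j' : Set X))) :
    QuasiSeparated f := by
  rw [HasAffineProperty.iff_of_iSup_eq_top (P := @QuasiSeparated) W hW]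
  intro i
  exact quasiSeparatedSpace_of_cover _ (V i) (hV i) (hVV i)

end K586.QSep
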