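import Mathlib.AlgebraicGeometry.AffineScheme
import Mathlib.Topology.Sheaves.SheafCondition.UniqueGluing
import Mathlib.CategoryTheory.Sites.DenseSubsite.InducedTopology

/-!
# Sheaves of sets on the ordered set of affine opens of a scheme
A presheaf on the affine opens whose value on the empty open is a singleton and which satisfies glueing for
`U = D(f) ∪ D(g)` is the restriction of a sheaf.
-/
set_option autoImplicit false
universe u
open AlgebraicGeometry CategoryTheory TopologicalSpace Opposite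

namespace K586.AffineBasis

variable {X : Scheme.{u}}

/-- inclusion of affine opens into opens -/
abbrev incl (X : Scheme.{u}) : X.affineOpens ⥤ X.Opens :=
  Monotone.functor (f := fun U : X.affineOpens => (U : X.Opens)) (fun _ _ h => h)

instance : (incl X).Faithful where
  map_injective _ := Subsingleton.elim _ _

instance : (incl X).Full where
  map_surjective f := ⟨homOfLE f.le, rfl⟩

instance : (incl X).IsCoverDense (Opens.grothendieckTopology X) where
  is_cover := by
    intro U x hx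
    obtain ⟨_, ⟨V, hV, rfl⟩, hxV, hVU⟩ := X.isBasis_affineOpens.exists_subset_of_mem_open hx U.2
    exact ⟨V, homOfLE hVU, ⟨⟨V, hV⟩, 𝟙 _, homOfLE hVU, rfl⟩, hxV⟩

/-- glueing property of a presheaf at an affine open W wrt a family x on a downward closed set T -/
def P (F : (X.affineOpens)ᵒᵖ ⥤ Type u) (T : X.affineOpens → Prop)
    (x : ∀ V, T V → F.obj (op V)) (W : X.affineOpens) : Prop :=
  ∃! s : F.obj (op W), ∀ (V : X.affineOpens) (h : V ≤ W) (hT : T V),
    F.map (homOfLE h).op s = x V hT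

section
variable (F : (X.affineOpens)ᵒᵖ ⥤ Type u)

/-- pair glueing -/
def PairGlue : Prop := ∀ (U V W VW : X.affineOpens) (f g : Γ(X, (U : X.Opens))),
        (V : X.Opens) = X.basicOpen f → (W : X.Opens) = X.basicOpen g →
        (VW : X.Opens) = X.basicOpen (f * g) → (U : X.Opens) = (V : X.Opens) ⊔ (W : X.Opens) →
        ∀ (hV : V ≤ U) (hW : W ≤ U) (h1 : VW ≤ V) (h2 : VW ≤ W),
        Function.Injective (fun s : F.obj (op U) => (F.map (homOfLE hV).op s, F.map (homOfLE hW).op s)) ∧
        Set.range (fun s : F.obj (op U) => (F.map (homOfLE hV).op s, F.map (homOfLE hW).op s)) =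
          {p | F.map (homOfLE h1).op p.1 = F.map (homOfLE h2).op p.2}

lemma map_map {U V W : X.affineOpens} (h : V ≤ U) (h' : W ≤ V) (s : F.obj (op U)) :
    F.map (homOfLE h').op (F.map (homOfLE h).op s) = F.map (homOfLE (h'.trans h)).op s := by
  rw [← ConcreteCategory.comp_apply, ← F.map_comp]
  rfl

lemma map_self {U : X.affineOpens} (h : U ≤ U) (s : F.obj (op U)) :
    F.map (homOfLE h).op s = s := by
  have : (homOfLE h).op = 𝟙 (op U) := rfl
  rw [this, F.map_id]
  rfl

variable {F} {T : X.affineOpens → Prop} (x : ∀ V, T V → F.obj (op V))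
  (hT : ∀ V V', V' ≤ V → T V → T V')
  (hx : ∀ (V V' : X.affineOpens) (h : V' ≤ V) (hV : T V) (hV' : T V'),
    F.map (homOfLE h).op (x V hV) = x V' hV')

include hx in
lemma P_of_mem (W : X.affineOpens) (hW : T W) : P F T x W := by
  refine ⟨x W hW, fun V h hV => hx _ _ _ _ _, fun s hs => ?_⟩
  have := hs W le_rfl hW
  rwa [map_self] at this

lemma P_of_bot (h0 : ∀ E : X.affineOpens, (E : X.Opens) = ⊥ →
      (Nonempty (F.obj (op E)) ∧ Subsingleton (F.obj (op E))))
    (W : X.affineOpens) (hW : (W : X.Opens) = ⊥) : P F T x W := by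
  obtain ⟨⟨a⟩, hs⟩ := h0 W hW
  refine ⟨a, fun V h hV => ?_, fun s _ => Subsingleton.elim _ _⟩
  have : (V : X.Opens) = ⊥ := le_bot_iff.mp (le_trans (show (V : X.Opens) ≤ W from h) hW.le)
  have := (h0 V this).2
  exact Subsingleton.elim _ _

include hT hx in
lemma P_of_pair (hF : PairGlue F) (W : X.affineOpens) (f g : Γ(X, (W : X.Opens)))
    (V₁ V₂ V₁₂ : X.affineOpens)
    (h₁ : (V₁ : X.Opens) = X.basicOpen f) (h₂ : (V₂ : X.Opens) = X.basicOpen g)
    (h₁₂ : (V₁₂ : X.Opens) = X.basicOpen (f * g))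
    (hW : (W : X.Opens) = (V₁ : X.Opens) ⊔ (V₂ : X.Opens))
    (H₁ : P F T x V₁) (H₂ : P F T x V₂) (H₁₂ : P F T x V₁₂) : P F T x W := by
  have l₁ : V₁ ≤ W := by
    show (V₁ : X.Opens) ≤ W
    rw [hW]; exact le_sup_left
  have l₂ : V₂ ≤ W := by
    show (V₂ : X.Opens) ≤ W
    rw [hW]; exact le_sup_right
  have l₁₂ : V₁₂ ≤ V₁ := by
    show (V₁₂ : X.Opens) ≤ V₁
    rw [h₁, h₁₂, X.basicOpen_mul]; exact inf_le_left
  have l₂₁ : V₁₂ ≤ V₂ := by
    show (V₁₂ : X.Opens) ≤ V₂
    rw [h₂, h₁₂, X.basicOpen_mul]; exact inf_le_right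
  obtain ⟨s₁, hs₁, u₁⟩ := H₁
  obtain ⟨s₂, hs₂, u₂⟩ := H₂
  obtain ⟨hinj, hrange⟩ := hF W V₁ V₂ V₁₂ f g h₁ h₂ h₁₂ hW l₁ l₂ l₁₂ l₂₁
  have hmem : (s₁, s₂) ∈ {p : F.obj (op V₁) × F.obj (op V₂) |
      F.map (homOfLE l₁₂).op p.1 = F.map (homOfLE l₂₁).op p.2} := by
    refine H₁₂.unique ?_ ?_
    · intro V h hV
      rw [map_map]
      exact hs₁ V _ hV
    · intro V h hV
      rw [map_map]
      exact hs₂ V _ hV
  rw [← hrange] at hmem
  obtain ⟨s, hs⟩ := hmem
  have e₁ : F.map (homOfLE l₁).op s = s₁ := congrArg Prod.fst hs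
  have e₂ : F.map (homOfLE l₂).op s = s₂ := congrArg Prod.snd hs
  refine ⟨s, ?_, ?_⟩
  · intro V h hV
    -- restrict to `D(f|V)` and `D(g|V)`
    let r : Γ(X, (W : X.Opens)) ⟶ Γ(X, (V : X.Opens)) := X.presheaf.map (homOfLE h).op
    have hr : ∀ a : Γ(X, (W : X.Opens)), X.basicOpen (r a) = (V : X.Opens) ⊓ X.basicOpen a :=
      fun a => X.basicOpen_res a _
    let A₁ : X.affineOpens := ⟨X.basicOpen (r f), V.2.basicOpen _⟩
    let A₂ : X.affineOpens := ⟨X.basicOpen (r g), V.2.basicOpen _⟩
    let A₁₂ : X.affineOpens := ⟨X.basicOpen (r f * r g), V.2.basicOpen _⟩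
    have m₁ : A₁ ≤ V := X.basicOpen_le _
    have m₂ : A₂ ≤ V := X.basicOpen_le _
    have m₁₂ : A₁₂ ≤ A₁ := by
      show X.basicOpen (r f * r g) ≤ X.basicOpen (r f)
      rw [X.basicOpen_mul]; exact inf_le_left
    have m₂₁ : A₁₂ ≤ A₂ := by
      show X.basicOpen (r f * r g) ≤ X.basicOpen (r g)
      rw [X.basicOpen_mul]; exact inf_le_right
    have k₁ : A₁ ≤ V₁ := by
      show X.basicOpen (r f) ≤ V₁
      rw [h₁, hr]; exact inf_le_right
    have k₂ : A₂ ≤ V₂ := by
      show X.basicOpen (r g) ≤ V₂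
      rw [h₂, hr]; exact inf_le_right
    have hV' : (V : X.Opens) = (A₁ : X.Opens) ⊔ (A₂ : X.Opens) := by
      show (V : X.Opens) = X.basicOpen (r f) ⊔ X.basicOpen (r g)
      rw [hr, hr, ← inf_sup_left, ← h₁, ← h₂, ← hW]
      exact (inf_eq_left.mpr h).symm
    have := (hF V A₁ A₂ A₁₂ (r f) (r g) rfl rfl rfl hV' m₁ m₂ m₁₂ m₂₁).1
    apply this
    have hA₁ : T A₁ := hT _ _ m₁ hV
    have hA₂ : T A₂ := hT _ _ m₂ hV
    refine Prod.ext ?_ ?_
    · show F.map (homOfLE m₁).op (F.map (homOfLE h).op s) = F.map (homOfLE m₁).op (x V hV)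
      rw [map_map, hx _ _ _ _ hA₁, ← hs₁ A₁ k₁ hA₁, ← e₁, map_map]
    · show F.map (homOfLE m₂).op (F.map (homOfLE h).op s) = F.map (homOfLE m₂).op (x V hV)
      rw [map_map, hx _ _ _ _ hA₂, ← hs₂ A₂ k₂ hA₂, ← e₂, map_map]
  · intro t ht
    apply hinj
    refine Prod.ext ?_ ?_
    · show F.map (homOfLE l₁).op t = F.map (homOfLE l₁).op s
      rw [e₁]
      apply u₁
      intro V h hV
      rw [map_map]
      exact ht V _ hV
    · show F.map (homOfLE l₂).op t = F.map (homOfLE l₂).op s
      rw [e₂]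
      apply u₂
      intro V h hV
      rw [map_map]
      exact ht V _ hV

include hT hx in
lemma P_of_span (hF : PairGlue F) (h0 : ∀ E : X.affineOpens, (E : X.Opens) = ⊥ →
      (Nonempty (F.obj (op E)) ∧ Subsingleton (F.obj (op E)))) (n : ℕ) :
    ∀ (W : X.affineOpens) (f : Fin n → Γ(X, (W : X.Opens)))
      (_ : ∀ i, T ⟨X.basicOpen (f i), W.2.basicOpen _⟩)
      (_ : Ideal.span (Set.range f) = ⊤), P F T x W := by
  induction n with
  | zero =>
    intro W f _ hs
    apply P_of_bot x h0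
    rw [Set.range_eq_empty, Ideal.span_empty] at hs
    have h1 : (1 : Γ(X, (W : X.Opens))) = 0 := by
      have : (1 : Γ(X, (W : X.Opens))) ∈ (⊤ : Ideal _) := trivial
      rw [← hs] at this
      simpa using this
    have h2 : X.basicOpen (1 : Γ(X, (W : X.Opens))) = (W : X.Opens) :=
      Scheme.basicOpen_of_isUnit _ isUnit_one
    rw [← h2, h1, Scheme.basicOpen_zero]
  | succ n ih =>
    intro W f hf hs
    have h1 : (1 : Γ(X, (W : X.Opens))) ∈ Ideal.span (Set.range f) := by rw [hs]; trivial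
    rw [Ideal.mem_span_range_iff_exists_fun] at h1
    obtain ⟨a, ha⟩ := h1
    rw [Fin.sum_univ_succ] at ha
    set g : Γ(X, (W : X.Opens)) := ∑ i : Fin n, a i.succ * f i.succ with hg
    let D₀ : X.affineOpens := ⟨X.basicOpen (f 0), W.2.basicOpen _⟩
    let D₁ : X.affineOpens := ⟨X.basicOpen g, W.2.basicOpen _⟩
    let D₀₁ : X.affineOpens := ⟨X.basicOpen (f 0 * g), W.2.basicOpen _⟩
    have hcov : (W : X.Opens) = (D₀ : X.Opens) ⊔ (D₁ : X.Opens) := by
      have hsp : Ideal.span ({f 0, g} : Set Γ(X, (W : X.Opens))) = ⊤ := by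
        rw [Ideal.eq_top_iff_one, ← ha]
        refine Ideal.add_mem _ (Ideal.mul_mem_left _ _ (Ideal.subset_span (by simp)))
          (Ideal.subset_span (by simp))
      have := AlgebraicGeometry.iSup_basicOpen_of_span_eq_top (X := X) _ _ hsp
      rw [← this]
      rw [iSup_pair]
    have lD₁ : D₁ ≤ W := X.basicOpen_le _
    refine P_of_pair x hT hx hF W (f 0) g D₀ D₁ D₀₁ rfl rfl rfl hcov ?_ ?_ ?_
    · exact P_of_mem x hx _ (hf 0)
    · let r : Γ(X, (W : X.Opens)) ⟶ Γ(X, (D₁ : X.Opens)) := X.presheaf.map (homOfLE lD₁).op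
      have hr : ∀ a : Γ(X, (W : X.Opens)), X.basicOpen (r a) = (D₁ : X.Opens) ⊓ X.basicOpen a :=
        fun a => X.basicOpen_res a _
      refine ih D₁ (fun i => r (f i.succ)) ?_ ?_
      · intro i
        refine hT ⟨X.basicOpen (f i.succ), W.2.basicOpen _⟩ _ ?_ (hf i.succ)
        show X.basicOpen (r (f i.succ)) ≤ X.basicOpen (f i.succ)
        rw [hr]; exact inf_le_right
      · have hu : IsUnit (r g) := by
          have := RingedSpace.isUnit_res_basicOpen X.toRingedSpace g
          exact this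
        apply Ideal.eq_top_of_isUnit_mem _ _ hu
        rw [hg, map_sum]
        refine Submodule.sum_mem _ fun i _ => ?_
        rw [map_mul]
        exact Ideal.mul_mem_left _ _ (Ideal.subset_span ⟨i, rfl⟩)
    · refine P_of_mem x hx _ (hT D₀ _ ?_ (hf 0))
      show X.basicOpen (f 0 * g) ≤ X.basicOpen (f 0)
      rw [X.basicOpen_mul]; exact inf_le_left

include hT hx in
lemma P_of_cover (hF : PairGlue F) (h0 : ∀ E : X.affineOpens, (E : X.Opens) = ⊥ →
      (Nonempty (F.obj (op E)) ∧ Subsingleton (F.obj (op E)))) (W : X.affineOpens)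
    (hW : ∀ y ∈ (W : X.Opens), ∃ V : X.affineOpens, T V ∧ V ≤ W ∧ y ∈ (V : X.Opens)) :
    P F T x W := by
  let s : Set Γ(X, (W : X.Opens)) := {f | T ⟨X.basicOpen f, W.2.basicOpen _⟩}
  have hs : Ideal.span s = ⊤ := by
    rw [← W.2.self_le_iSup_basicOpen_iff]
    intro y hy
    obtain ⟨V, hTV, hVW, hyV⟩ := hW y hy
    obtain ⟨f, hf, hyf⟩ := W.2.exists_basicOpen_le ⟨y, hyV⟩ hy
    rw [Opens.mem_iSup]
    exact ⟨⟨f, hT V _ hf hTV⟩, hyf⟩
  rw [Ideal.span_eq_top_iff_finite] at hs
  obtain ⟨s', hs', hsp⟩ := hs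
  refine P_of_span x hT hx hF h0 s'.card W (fun i => (s'.equivFin.symm i : Γ(X, (W : X.Opens)))) ?_ ?_
  · intro i
    exact hs' (s'.equivFin.symm i).2
  · rw [← hsp]
    congr 1
    ext a
    constructor
    · rintro ⟨i, rfl⟩
      exact (s'.equivFin.symm i).2
    · intro ha
      exact ⟨s'.equivFin ⟨a, ha⟩, by simp⟩

end

theorem isSheaf_of_pairGlue (F : (X.affineOpens)ᵒᵖ ⥤ Type u)
    (h0 : ∀ E : X.affineOpens, (E : X.Opens) = ⊥ →
      (Nonempty (F.obj (op E)) ∧ Subsingleton (F.obj (op E))))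
    (hF : PairGlue F) :
    Presieve.IsSheaf ((incl X).inducedTopology (Opens.grothendieckTopology X)) F := by
  intro U S hS x hx
  rw [Functor.mem_inducedTopology_iff_of_isCoverDense] at hS
  let T : X.affineOpens → Prop := fun V => ∃ h : V ≤ U, S.arrows (homOfLE h)
  let y : ∀ V, T V → F.obj (op V) := fun V hV => x (homOfLE hV.choose) hV.choose_spec
  have hT : ∀ V V', V' ≤ V → T V → T V' := by
    rintro V V' h ⟨h', h''⟩
    exact ⟨h.trans h', S.downward_closed h'' (homOfLE h)⟩
  have hy : ∀ (V V' : X.affineOpens) (h : V' ≤ V) (hV : T V) (hV' : T V'),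
      F.map (homOfLE h).op (y V hV) = y V' hV' := by
    intro V V' h hV hV'
    have := hx (homOfLE h) (𝟙 V') hV.choose_spec hV'.choose_spec (Subsingleton.elim _ _)
    rw [op_id, F.map_id] at this
    exact this
  have hW : ∀ z ∈ (U : X.Opens), ∃ V : X.affineOpens, T V ∧ V ≤ U ∧ z ∈ (V : X.Opens) := by
    intro z hz
    obtain ⟨V, f, ⟨W, g, h, hg, rfl⟩, hzV⟩ := hS z hz
    exact ⟨W, ⟨g.le, hg⟩, g.le, h.le hzV⟩
  obtain ⟨s, hs, hu⟩ := P_of_cover y hT hy hF h0 U hW
  refine ⟨s, ?_, ?_⟩
  · intro V f hf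
    have hV : T V := ⟨f.le, hf⟩
    exact hs V f.le hV
  · intro t ht
    apply hu
    intro V h hV
    exact ht _ _

theorem exists_sheaf_of_pairGlue (F : (X.affineOpens)ᵒᵖ ⥤ Type u)
    (h0 : ∀ E : X.affineOpens, (E : X.Opens) = ⊥ →
      (Nonempty (F.obj (op E)) ∧ Subsingleton (F.obj (op E))))
    (hF : PairGlue F) :
    ∃ G : TopCat.Sheaf (Type u) X.carrier, Nonempty ((incl X).op ⋙ G.1 ≅ F) := by
  let J := (incl X).inducedTopology (Opens.grothendieckTopology X)
  let e : Sheaf J (Type u) ≌ Sheaf (Opens.grothendieckTopology X) (Type u) :=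
    (incl X).sheafInducedTopologyEquivOfIsCoverDense _ _
  let F' : Sheaf J (Type u) := ⟨F, (isSheaf_iff_isSheaf_of_type _ _).mpr (isSheaf_of_pairGlue F h0 hF)⟩
  refine ⟨e.functor.obj F', ⟨?_⟩⟩
  exact (sheafToPresheaf _ _).mapIso (e.unitIso.app F').symm


theorem pairGlue_of_sheaf {X : Scheme.{u}} (F : (X.affineOpens)ᵒᵖ ⥤ Type u)
    (G : TopCat.Sheaf (Type u) X.carrier) (e : (incl X).op ⋙ G.1 ≅ F) :
    (∀ E : X.affineOpens, (E : X.Opens) = ⊥ →
      (Nonempty (F.obj (op E)) ∧ Subsingleton (F.obj (op E)))) ∧ PairGlue F := by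
  constructor
  · intro E hE
    have t : Limits.IsTerminal (G.1.obj (op (E : X.Opens))) := G.isTerminalOfEqEmpty hE
    have u := Limits.Types.isTerminalEquivUnique _ t
    have eq : G.1.obj (op (E : X.Opens)) ≃ F.obj (op E) := (e.app (op E)).toEquiv
    exact ⟨⟨eq default⟩, eq.symm.subsingleton⟩
  · intro U V W VW f g hV hW hVW hU lV lW h1 h2
    have nat : ∀ {A B : X.affineOpens} (h : B ≤ A) (s : G.1.obj (op (A : X.Opens))),
        F.map (homOfLE h).op (e.hom.app (op A) s) =
          e.hom.app (op B) (G.1.map (homOfLE (show (B : X.Opens) ≤ A from h)).op s) := by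
      intro A B h s
      have := ConcreteCategory.congr_hom (e.hom.naturality (homOfLE h).op) s
      exact this.symm
    have surj : ∀ (A : X.affineOpens) (s : F.obj (op A)), ∃ t, e.hom.app (op A) t = s := by
      intro A s
      exact ⟨e.inv.app (op A) s, (e.app (op A)).toEquiv.apply_symm_apply s⟩
    have inj : ∀ (A : X.affineOpens), Function.Injective (e.hom.app (op A)) := by
      intro A
      exact (e.app (op A)).toEquiv.injective
    constructor
    · intro s t hst
      obtain ⟨s', rfl⟩ := surj _ s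
      obtain ⟨t', rfl⟩ := surj _ t
      have h₁ := congrArg Prod.fst hst
      have h₂ := congrArg Prod.snd hst
      dsimp only at h₁ h₂
      rw [nat, nat] at h₁ h₂
      congr 1
      exact G.eq_of_locally_eq₂ (homOfLE (show (V : X.Opens) ≤ U from lV))
        (homOfLE (show (W : X.Opens) ≤ U from lW)) hU.le s' t' (inj _ h₁) (inj _ h₂)
    · ext ⟨a, b⟩
      constructor
      · rintro ⟨s, hs⟩
        obtain rfl := congrArg Prod.fst hs
        obtain rfl := congrArg Prod.snd hs
        show F.map (homOfLE h1).op (F.map (homOfLE lV).op s) =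
          F.map (homOfLE h2).op (F.map (homOfLE lW).op s)
        rw [map_map, map_map]
      · intro hab
        replace hab : F.map (homOfLE h1).op a = F.map (homOfLE h2).op b := hab
        obtain ⟨a, rfl⟩ := surj _ a
        obtain ⟨b, rfl⟩ := surj _ b
        rw [nat, nat] at hab
        replace hab := inj _ hab
        let Ui : Bool → X.Opens := fun i => cond i (V : X.Opens) (W : X.Opens)
        let sf : ∀ i : Bool, ToType (G.1.obj (op (Ui i))) := fun i => match i with
          | true => a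
          | false => b
        have hVW' : (V : X.Opens) ⊓ (W : X.Opens) ≤ VW := by
          rw [hV, hW, hVW, X.basicOpen_mul]
        have key : G.1.map (homOfLE (inf_le_left : (V : X.Opens) ⊓ W ≤ V)).op a =
            G.1.map (homOfLE (inf_le_right : (V : X.Opens) ⊓ W ≤ W)).op b := by
          have := congrArg (G.1.map (homOfLE hVW').op) hab
          rw [← ConcreteCategory.comp_apply, ← ConcreteCategory.comp_apply, ← G.1.map_comp,
            ← G.1.map_comp] at this
          exact this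
        have hc : TopCat.Presheaf.IsCompatible G.1 Ui sf := by
          rintro (_ | _) (_ | _)
          · rfl
          · show G.1.map (homOfLE (inf_le_left : (W : X.Opens) ⊓ V ≤ W)).op b =
              G.1.map (homOfLE (inf_le_right : (W : X.Opens) ⊓ V ≤ V)).op a
            have := congrArg (G.1.map (homOfLE (inf_comm (W : X.Opens) V).le).op) key
            rw [← ConcreteCategory.comp_apply, ← ConcreteCategory.comp_apply, ← G.1.map_comp,
              ← G.1.map_comp] at this
            exact this.symm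
          · exact key
          · rfl
        obtain ⟨s, hs, -⟩ := G.existsUnique_gluing' Ui (U : X.Opens)
          (fun i => match i with
            | true => homOfLE (show (V : X.Opens) ≤ U from lV)
            | false => homOfLE (show (W : X.Opens) ≤ U from lW))
          (by
            rw [hU]
            exact sup_le (le_iSup Ui true) (le_iSup Ui false)) sf hc
        refine ⟨e.hom.app (op U) s, ?_⟩
        have q₁ := hs true
        have q₂ := hs false
        refine Prod.ext ?_ ?_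
        · show F.map (homOfLE lV).op (e.hom.app (op U) s) = _
          rw [nat]
          exact congrArg (e.hom.app (op V)) q₁
        · show F.map (homOfLE lW).op (e.hom.app (op U) s) = _
          rw [nat]
          exact congrArg (e.hom.app (op W)) q₂

end K586.AffineBasis
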